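import Cfsg.Agent.H7.He.HeT0D

set_option autoImplicit false
set_option maxRecDepth 100000

namespace CfsgH7.HeT0

theorem c0 : Nat.beq (nsum2 D.val 0 113 64) 7151 = true := by decide +kernel

theorem c1 : Nat.beq (nsum2 D.val 7232 113 64) 7147 = true := by decide +kernel

theorem c2 : Nat.beq (nsum2 D.val 14464 113 64) 7147 = true := by decide +kernel

theorem c3 : Nat.beq (nsum2 D.val 21696 113 64) 7172 = true := by decide +kernel

theorem c4 : Nat.beq (nsum2 D.val 28928 113 64) 7215 = true := by decide +kernel

theorem c5 : Nat.beq (nsum2 D.val 36160 113 64) 7229 = true := by decide +kernel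

theorem c6 : Nat.beq (nsum2 D.val 43392 113 64) 6919 = true := by decide +kernel


end CfsgH7.HeT0
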