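import Cfsg.Agent.H7.TCMain
import Cfsg.Agent.H7.He.HeT0D0
import Cfsg.Agent.H7.He.HeT0D1

set_option autoImplicit false
set_option maxRecDepth 100000

namespace CfsgH7.HeT0

noncomputable def R : RTr := (RTr.node (RTr.node (RTr.node (RTr.node (RTr.node (RTr.node (RTr.node (RTr.node (RTr.node (RTr.leaf ⟨true,25,[],[],0,0,false⟩) (RTr.leaf ⟨false,75,[125,100,75,125,100,75,125,100,75,125,100,75,125,100],[],32,6,false⟩)) (RTr.leaf ⟨false,0,[75,100,75,100,75,100,75,100,75,25,100],[],30,9,true⟩)) (RTr.node (RTr.leaf ⟨false,125,[150,175,150,175],[],28,0,false⟩) (RTr.leaf ⟨false,0,[150,50,150,50],[],16,2,false⟩))) (RTr.node (RTr.node (RTr.node (RTr.leaf ⟨false,50,[150,50,150],[],16,2,false⟩) (RTr.leaf ⟨false,0,[150,100,150,100,150,100],[],23,4,false⟩)) (RTr.leaf ⟨false,100,[75,125,100,75,125,100,75,125,100,75,125,100,75,125],[],32,1,false⟩)) (RTr.node (RTr.leaf ⟨false,0,[100,150,100,150,100,150],[],23,3,false⟩)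 (RTr.leaf ⟨false,0,[175,50,175,50],[],17,2,false⟩)))) (RTr.node (RTr.node (RTr.node (RTr.node (RTr.leaf ⟨false,75,[75],[],2,0,false⟩) (RTr.leaf ⟨false,0,[125,100,125,100,125,100],[],22,4,false⟩)) (RTr.leaf ⟨false,75,[100,150,175,75,100,150,175,75,100,150,175,75,100,150,175],[],31,15,true⟩)) (RTr.node (RTr.leaf ⟨false,150,[125,175,150,175],[],28,0,true⟩) (RTr.leaf ⟨false,0,[125,175,125,175],[],26,3,false⟩))) (RTr.node (RTr.node (RTr.leaf ⟨false,75,[100,75,100,75,100,75,100,75,100,25],[],30,10,false⟩) (RTr.leaf ⟨false,0,[150,75,150,75],[],20,1,true⟩)) (RTr.node (RTr.leaf ⟨false,125,[75,100,125,75,100,125,75,100,125,75,100,125,75,100],[],32,0,true⟩) (RTr.leaf ⟨false,0,[100,125,100,125,100,125],[],22,4,true⟩))))) (RTr.node (RTr.node (RTr.node (RTr.node (RTr.node (RTr.leaf ⟨false,125,[50,125,50],[],15,3,false⟩) (RTr.leaf ⟨false,100,[150,175,75,100,150,175,75,100,150,175,75,100,150,175,75],[],31,6,true⟩))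 (RTr.leaf ⟨false,75,[100,75,100,75,100,75,100,25,75,100],[],30,8,false⟩)) (RTr.node (RTr.leaf ⟨false,100,[150,175,75,100,150,175,75,100,150,175,75,100,150,175,75],[],31,14,true⟩) (RTr.leaf ⟨false,0,[75,175,75,175],[],21,3,false⟩))) (RTr.node (RTr.node (RTr.leaf ⟨false,75,[50,75,50,75,50],[],13,5,false⟩) (RTr.leaf ⟨false,0,[50,175,50,175],[],17,3,false⟩)) (RTr.node (RTr.leaf ⟨false,75,[175,75,175],[],21,0,false⟩) (RTr.leaf ⟨false,0,[100,75,100,25,75,100,75,100,75,100,75],[],30,4,false⟩)))) (RTr.node (RTr.node (RTr.node (RTr.node (RTr.leaf ⟨false,50,[25,125,75,50,25,75,50,25,75],[],29,1,true⟩) (RTr.leaf ⟨false,0,[100,75,100,75,100,75,100,75,100,75,25],[],30,10,true⟩)) (RTr.leaf ⟨false,75,[50,75,50,75,50],[],13,1,false⟩)) (RTr.node (RTr.leaf ⟨false,75,[25,75,25],[],8,1,false⟩) (RTr.leaf ⟨false,0,[25,150,25,150],[],11,2,true⟩))) (RTr.node (RTr.node (RTr.leaf ⟨false,50,[25,50,25,50,25,50,25],[],7,7,false⟩)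 (RTr.leaf ⟨false,100,[75,125,100,75,125,100,75,125,100,75,125,100,75,125],[],32,10,false⟩)) (RTr.node (RTr.leaf ⟨false,0,[25,100,25,100],[],9,2,true⟩) (RTr.leaf ⟨false,0,[25,75,25,75],[],8,3,false⟩)))))) (RTr.node (RTr.node (RTr.node (RTr.node (RTr.node (RTr.node (RTr.leaf ⟨true,150,[],[],4,0,false⟩) (RTr.leaf ⟨false,0,[75,100,75,100,75,100,25,75,100,75,100],[],30,7,false⟩)) (RTr.leaf ⟨false,0,[100,175,100,175,100,175],[],24,5,false⟩)) (RTr.node (RTr.leaf ⟨false,125,[25,125,25],[],10,1,false⟩) (RTr.leaf ⟨false,0,[100,175,100,175,100,175],[],24,2,true⟩))) (RTr.node (RTr.node (RTr.leaf ⟨false,100,[175,100,175,100,175],[],24,4,false⟩) (RTr.leaf ⟨false,75,[175,150,100,75,175,150,100,75,175,150,100,75,175,150,100],[],31,4,false⟩)) (RTr.node (RTr.leaf ⟨false,0,[150,175,125,150,175],[],28,3,false⟩) (RTr.leaf ⟨false,0,[100,50,100,50],[],14,2,false⟩)))) (RTr.node (RTr.node (RTr.node (RTr.node (RTr.leaf ⟨false,50,[75,50,75,50,75],[],13,4,false⟩)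 (RTr.leaf ⟨false,100,[125,75,100,125,75,100,125,75,100,125,75,100,125,75],[],32,7,true⟩)) (RTr.leaf ⟨false,50,[175,50,175],[],17,0,false⟩)) (RTr.node (RTr.leaf ⟨false,150,[50,150,50],[],16,1,false⟩) (RTr.leaf ⟨false,125,[75,100,125,75,100,125,75,100,125,75,100,125,75,100],[],32,12,true⟩))) (RTr.node (RTr.node (RTr.leaf ⟨false,100,[75,175,150,100,75,175,150,100,75,175,150,100,75,175,150],[],31,1,false⟩) (RTr.leaf ⟨false,0,[50,100,50,100],[],14,1,false⟩)) (RTr.node (RTr.leaf ⟨false,50,[25,75,50,25,75,50,25,125,75],[],29,7,true⟩) (RTr.leaf ⟨false,50,[75,25,50,75,125,25,50,75,25],[],29,5,false⟩))))) (RTr.node (RTr.node (RTr.node (RTr.node (RTr.node (RTr.leaf ⟨false,100,[25,100,25],[],9,3,false⟩) (RTr.leaf ⟨false,75,[100,75,100,75,100,75,100,75,25,100],[],30,8,true⟩)) (RTr.leaf ⟨false,125,[150,125,150],[],25,0,false⟩)) (RTr.node (RTr.leaf ⟨false,100,[150,100,150,100,150],[],23,0,false⟩) (RTr.leaf ⟨false,0,[125,100,75,125,100,75,125,100,75,125,100,75,125,100,75],[],32,3,false⟩)))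 (RTr.node (RTr.node (RTr.leaf ⟨false,125,[150,125,150],[],25,2,false⟩) (RTr.leaf ⟨false,0,[150,50,150,50],[],16,1,true⟩)) (RTr.node (RTr.leaf ⟨false,100,[75,125,100,75,125,100,75,125,100,75,125,100,75,125],[],32,13,false⟩) (RTr.leaf ⟨false,0,[150,175,75,100,150,175,75,100,150,175,75,100,150,175,75,100],[],31,10,true⟩)))) (RTr.node (RTr.node (RTr.node (RTr.node (RTr.leaf ⟨false,125,[125],[],4,0,false⟩) (RTr.leaf ⟨false,75,[175,150,100,75,175,150,100,75,175,150,100,75,175,150,100],[],31,12,false⟩)) (RTr.leaf ⟨false,100,[125,75,100,125,75,100,125,75,100,125,75,100,125,75],[],32,1,true⟩)) (RTr.node (RTr.leaf ⟨false,150,[125,150,125],[],25,1,false⟩) (RTr.leaf ⟨false,25,[50,25,50,25,50,25,50],[],7,0,false⟩))) (RTr.node (RTr.node (RTr.leaf ⟨false,150,[175,150,175,125],[],28,4,false⟩) (RTr.leaf ⟨false,0,[75,25,50,75,25,50,75,125,25,50],[],29,8,false⟩)) (RTr.node (RTr.leaf ⟨false,150,[100,150,100,150,100],[],23,3,false⟩)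 (RTr.leaf ⟨false,0,[50,100,50,100],[],14,3,false⟩))))))) (RTr.node (RTr.node (RTr.node (RTr.node (RTr.node (RTr.node (RTr.node (RTr.leaf ⟨true,100,[],[],2,0,false⟩) (RTr.leaf ⟨false,175,[150,100,75,175,150,100,75,175,150,100,75,175,150,100,75],[],31,11,false⟩)) (RTr.leaf ⟨false,0,[100,175,100,175,100,175],[],24,3,false⟩)) (RTr.node (RTr.leaf ⟨false,25,[50,75,25,50,75,25,50,75,125],[],29,9,false⟩) (RTr.leaf ⟨false,150,[175,75,100,150,175,75,100,150,175,75,100,150,175,75,100],[],31,5,true⟩))) (RTr.node (RTr.node (RTr.leaf ⟨false,175,[175],[],6,0,false⟩) (RTr.leaf ⟨false,125,[75,100,125,75,100,125,75,100,125,75,100,125,75,100],[],32,3,true⟩)) (RTr.node (RTr.leaf ⟨false,175,[100,175,100,175,100],[],24,3,false⟩) (RTr.leaf ⟨false,0,[100,150,175,75,100,150,175,75,100,150,175,75,100,150,175,75],[],31,3,true⟩)))) (RTr.node (RTr.node (RTr.node (RTr.node (RTr.leaf ⟨false,150,[75,150,75],[],20,3,false⟩) (RTr.leaf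 ⟨false,0,[25,100,25,100],[],9,1,false⟩)) (RTr.leaf ⟨false,50,[150,50,150],[],16,0,false⟩)) (RTr.node (RTr.leaf ⟨false,100,[75,100,75,100,75,100,25,75,100,75],[],30,7,false⟩) (RTr.leaf ⟨false,0,[125,150,125,150],[],25,1,false⟩))) (RTr.node (RTr.node (RTr.leaf ⟨false,50,[75,125,25,50,75,25,50,75,25],[],29,2,false⟩) (RTr.leaf ⟨false,150,[100,75,175,150,100,75,175,150,100,75,175,150,100,75,175],[],31,10,false⟩)) (RTr.node (RTr.leaf ⟨false,75,[100,75,100,25,75,100,75,100,75,100],[],30,4,false⟩) (RTr.leaf ⟨false,0,[50,125,50,125],[],15,3,false⟩))))) (RTr.node (RTr.node (RTr.node (RTr.node (RTr.node (RTr.leaf ⟨false,175,[50,175,50],[],17,3,false⟩) (RTr.leaf ⟨false,75,[100,75,100,75,25,100,75,100,75,100],[],30,4,true⟩)) (RTr.leaf ⟨false,50,[100,50,100],[],14,0,false⟩)) (RTr.node (RTr.leaf ⟨false,150,[75,150,75],[],20,1,false⟩) (RTr.leaf ⟨false,0,[150,125,175,150,175],[],28,1,true⟩))) (RTr.node (RTr.node (RTr.leaf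 ⟨false,75,[150,75,150],[],20,2,false⟩) (RTr.leaf ⟨false,50,[75,50,75,50,75],[],13,0,false⟩)) (RTr.node (RTr.leaf ⟨false,75,[150,75,150],[],20,0,false⟩) (RTr.leaf ⟨false,0,[150,125,150,125],[],25,0,false⟩)))) (RTr.node (RTr.node (RTr.node (RTr.node (RTr.leaf ⟨false,50,[100,50,100],[],14,2,false⟩) (RTr.leaf ⟨false,75,[50,25,125,75,50,25,75,50,25],[],29,2,true⟩)) (RTr.leaf ⟨false,0,[100,75,175,150,100,75,175,150,100,75,175,150,100,75,175,150],[],31,6,false⟩)) (RTr.node (RTr.leaf ⟨false,175,[50,175,50],[],17,1,false⟩) (RTr.leaf ⟨false,0,[150,175,150,175,125],[],28,0,false⟩))) (RTr.node (RTr.node (RTr.leaf ⟨false,100,[50,100,50],[],14,1,false⟩) (RTr.leaf ⟨false,0,[175,125,150,175,150],[],28,2,false⟩)) (RTr.node (RTr.leaf ⟨false,0,[100,75,100,75,100,25,75,100,75,100,75],[],30,6,false⟩) (RTr.leaf ⟨false,100,[125,75,100,125,75,100,125,75,100,125,75,100,125,75],[],32,10,true⟩)))))) (RTr.node (RTr.node (RTr.node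 (RTr.node (RTr.node (RTr.node (RTr.leaf ⟨false,50,[50],[],1,0,false⟩) (RTr.leaf ⟨false,25,[50,75,25,50,75,125,25,50,75],[],29,6,false⟩)) (RTr.leaf ⟨false,0,[125,100,75,125,100,75,125,100,75,125,100,75,125,100,75],[],32,9,false⟩)) (RTr.node (RTr.leaf ⟨false,100,[150,175,75,100,150,175,75,100,150,175,75,100,150,175,75],[],31,2,true⟩) (RTr.leaf ⟨false,150,[175,150,125,175],[],28,2,true⟩))) (RTr.node (RTr.node (RTr.leaf ⟨false,25,[150,25,150],[],11,2,false⟩) (RTr.leaf ⟨false,25,[75,25,75],[],8,0,false⟩)) (RTr.node (RTr.leaf ⟨false,100,[25,75,100,75,100,75,100,75,100,75],[],30,1,false⟩) (RTr.leaf ⟨false,0,[50,150,50,150],[],16,3,false⟩)))) (RTr.node (RTr.node (RTr.node (RTr.node (RTr.leaf ⟨false,25,[75,25,75],[],8,2,false⟩) (RTr.leaf ⟨false,0,[25,175,25,175],[],12,2,true⟩)) (RTr.leaf ⟨false,25,[175,25,175],[],12,0,false⟩)) (RTr.node (RTr.leaf ⟨false,100,[25,100,25],[],9,1,false⟩) (RTr.leaf ⟨false,100,[75,100,75,100,75,100,75,100,75,25],[],30,9,true⟩)))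 (RTr.node (RTr.node (RTr.leaf ⟨false,150,[100,150,100,150,100],[],23,5,false⟩) (RTr.leaf ⟨false,100,[75,175,150,100,75,175,150,100,75,175,150,100,75,175,150],[],31,5,false⟩)) (RTr.node (RTr.leaf ⟨false,75,[125,75,125],[],19,0,false⟩) (RTr.leaf ⟨false,175,[150,100,75,175,150,100,75,175,150,100,75,175,150,100,75],[],31,7,false⟩))))) (RTr.node (RTr.node (RTr.node (RTr.node (RTr.node (RTr.leaf ⟨false,150,[25,150,25],[],11,3,false⟩) (RTr.leaf ⟨false,150,[100,75,175,150,100,75,175,150,100,75,175,150,100,75,175],[],31,6,false⟩)) (RTr.leaf ⟨false,100,[75,100,75,100,25,75,100,75,100,75],[],30,5,false⟩)) (RTr.node (RTr.leaf ⟨false,175,[100,175,100,175,100],[],24,1,false⟩) (RTr.leaf ⟨false,25,[75,100,75,100,75,100,75,100,75,100],[],30,0,false⟩))) (RTr.node (RTr.node (RTr.leaf ⟨false,150,[175,125,150,175],[],28,2,false⟩) (RTr.leaf ⟨false,0,[150,100,150,100,150,100],[],23,3,true⟩)) (RTr.node (RTr.leaf ⟨false,75,[25,100,75,100,75,100,75,100,75,100],[],30,0,true⟩)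 (RTr.leaf ⟨false,0,[175,75,175,75],[],21,0,false⟩)))) (RTr.node (RTr.node (RTr.node (RTr.node (RTr.leaf ⟨false,100,[125,100,125,100,125],[],22,4,false⟩) (RTr.leaf ⟨false,0,[100,75,175,150,100,75,175,150,100,75,175,150,100,75,175,150],[],31,14,false⟩)) (RTr.leaf ⟨false,25,[75,50,25,75,50,25,125,75,50],[],29,6,true⟩)) (RTr.node (RTr.leaf ⟨false,175,[150,100,75,175,150,100,75,175,150,100,75,175,150,100,75],[],31,15,false⟩) (RTr.leaf ⟨false,125,[75,100,125,75,100,125,75,100,125,75,100,125,75,100],[],32,6,true⟩))) (RTr.node (RTr.node (RTr.leaf ⟨false,150,[125,150,125],[],25,3,false⟩) (RTr.leaf ⟨false,0,[75,175,75,175],[],21,1,false⟩)) (RTr.node (RTr.leaf ⟨false,100,[125,100,125,100,125],[],22,0,false⟩) (RTr.leaf ⟨false,0,[100,25,100,25],[],9,2,false⟩)))))))) (RTr.node (RTr.node (RTr.node (RTr.node (RTr.node (RTr.node (RTr.node (RTr.node (RTr.leaf ⟨true,75,[],[],1,0,false⟩) (RTr.leaf ⟨false,0,[75,100,75,25,100,75,100,75,100,75,100],[],30,3,true⟩))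 (RTr.leaf ⟨false,100,[150,100,150,100,150],[],23,2,false⟩)) (RTr.node (RTr.leaf ⟨false,125,[175,150,175,150],[],28,4,true⟩) (RTr.leaf ⟨false,125,[100,75,125,100,75,125,100,75,125,100,75,125,100,75],[],32,2,false⟩))) (RTr.node (RTr.node (RTr.node (RTr.leaf ⟨false,100,[150,100,150,100,150],[],23,4,false⟩) (RTr.leaf ⟨false,100,[150,175,75,100,150,175,75,100,150,175,75,100,150,175,75],[],31,10,true⟩)) (RTr.leaf ⟨false,25,[50,25,50,25,50,25,50],[],7,4,false⟩)) (RTr.node (RTr.leaf ⟨false,175,[150,100,75,175,150,100,75,175,150,100,75,175,150,100,75],[],31,3,false⟩) (RTr.leaf ⟨false,125,[100,75,125,100,75,125,100,75,125,100,75,125,100,75],[],32,8,false⟩)))) (RTr.node (RTr.node (RTr.node (RTr.node (RTr.leaf ⟨false,125,[75,125,75],[],19,3,false⟩) (RTr.leaf ⟨false,0,[25,125,25,125],[],10,1,false⟩)) (RTr.leaf ⟨false,0,[50,75,50,75,50,75],[],13,1,false⟩)) (RTr.node (RTr.leaf ⟨false,175,[125,150,175,150],[],28,1,false⟩)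 (RTr.leaf ⟨false,0,[100,125,75,100,125,75,100,125,75,100,125,75,100,125,75],[],32,2,true⟩))) (RTr.node (RTr.node (RTr.leaf ⟨false,75,[25,75,25],[],8,3,false⟩) (RTr.leaf ⟨false,50,[25,75,50,25,125,75,50,25,75],[],29,4,true⟩)) (RTr.node (RTr.leaf ⟨false,25,[75,50,25,125,75,50,25,75,50],[],29,3,true⟩) (RTr.leaf ⟨false,100,[75,25,100,75,100,75,100,75,100,75],[],30,1,true⟩))))) (RTr.node (RTr.node (RTr.node (RTr.node (RTr.node (RTr.leaf ⟨false,150,[50,150,50],[],16,3,false⟩) (RTr.leaf ⟨false,50,[25,50,25,50,25,50,25],[],7,1,false⟩)) (RTr.leaf ⟨false,100,[75,100,25,75,100,75,100,75,100,75],[],30,3,false⟩)) (RTr.node (RTr.leaf ⟨false,175,[75,100,150,175,75,100,150,175,75,100,150,175,75,100,150],[],31,0,true⟩) (RTr.leaf ⟨false,0,[175,150,100,75,175,150,100,75,175,150,100,75,175,150,100,75],[],31,12,false⟩))) (RTr.node (RTr.node (RTr.leaf ⟨false,75,[125,75,125],[],19,2,false⟩) (RTr.leaf ⟨false,75,[125,25,50,75,25,50,75,25,50],[],29,1,false⟩))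 (RTr.node (RTr.leaf ⟨false,100,[125,100,125,100,125],[],22,2,false⟩) (RTr.leaf ⟨false,75,[100,150,175,75,100,150,175,75,100,150,175,75,100,150,175],[],31,11,true⟩)))) (RTr.node (RTr.node (RTr.node (RTr.node (RTr.leaf ⟨false,100,[100],[],3,0,false⟩) (RTr.leaf ⟨false,0,[150,25,150,25],[],11,3,true⟩)) (RTr.leaf ⟨false,100,[75,175,150,100,75,175,150,100,75,175,150,100,75,175,150],[],31,13,false⟩)) (RTr.node (RTr.leaf ⟨false,0,[75,175,150,100,75,175,150,100,75,175,150,100,75,175,150,100],[],31,13,false⟩) (RTr.leaf ⟨false,0,[75,100,125,75,100,125,75,100,125,75,100,125,75,100,125],[],32,12,true⟩))) (RTr.node (RTr.node (RTr.leaf ⟨false,125,[25,50,75,25,50,75,25,50,75],[],29,0,false⟩) (RTr.leaf ⟨false,150,[175,75,100,150,175,75,100,150,175,75,100,150,175,75,100],[],31,13,true⟩)) (RTr.node (RTr.leaf ⟨false,0,[100,25,75,100,75,100,75,100,75,100,75],[],30,2,false⟩) (RTr.leaf ⟨false,25,[100,75,100,75,100,75,100,75,100,75],[],30,10,true⟩))))))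 (RTr.node (RTr.node (RTr.node (RTr.node (RTr.node (RTr.node (RTr.leaf ⟨true,175,[],[],5,0,false⟩) (RTr.leaf ⟨false,0,[150,175,75,100,150,175,75,100,150,175,75,100,150,175,75,100],[],31,14,true⟩)) (RTr.leaf ⟨false,75,[100,150,175,75,100,150,175,75,100,150,175,75,100,150,175],[],31,7,true⟩)) (RTr.node (RTr.leaf ⟨false,175,[150,175,150,125],[],28,3,true⟩) (RTr.leaf ⟨false,0,[75,150,75,150],[],20,3,false⟩))) (RTr.node (RTr.node (RTr.leaf ⟨false,25,[125,25,125],[],10,2,false⟩) (RTr.leaf ⟨false,50,[75,50,75,50,75],[],13,2,false⟩)) (RTr.node (RTr.leaf ⟨false,125,[100,125,100,125,100],[],22,1,false⟩) (RTr.leaf ⟨false,0,[75,50,75,50,75,50],[],13,3,true⟩)))) (RTr.node (RTr.node (RTr.node (RTr.node (RTr.leaf ⟨false,25,[50,25,50,25,50,25,50],[],7,6,false⟩) (RTr.leaf ⟨false,0,[175,25,175,25],[],12,3,true⟩)) (RTr.leaf ⟨false,25,[150,25,150],[],11,0,false⟩)) (RTr.node (RTr.leaf ⟨false,150,[100,150,100,150,100],[],23,1,false⟩)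 (RTr.leaf ⟨false,175,[75,100,150,175,75,100,150,175,75,100,150,175,75,100,150],[],31,8,true⟩))) (RTr.node (RTr.node (RTr.leaf ⟨false,125,[100,125,100,125,100],[],22,5,false⟩) (RTr.leaf ⟨false,0,[50,150,50,150],[],16,1,false⟩)) (RTr.node (RTr.leaf ⟨false,150,[100,75,175,150,100,75,175,150,100,75,175,150,100,75,175],[],31,14,false⟩) (RTr.leaf ⟨false,75,[100,150,175,75,100,150,175,75,100,150,175,75,100,150,175],[],31,3,true⟩))))) (RTr.node (RTr.node (RTr.node (RTr.node (RTr.node (RTr.leaf ⟨false,125,[25,125,25],[],10,3,false⟩) (RTr.leaf ⟨false,0,[150,100,150,100,150,100],[],23,0,false⟩)) (RTr.leaf ⟨false,0,[150,75,150,75],[],20,2,false⟩)) (RTr.node (RTr.leaf ⟨false,150,[25,150,25],[],11,1,false⟩) (RTr.leaf ⟨false,75,[100,125,75,100,125,75,100,125,75,100,125,75,100,125],[],32,2,true⟩))) (RTr.node (RTr.node (RTr.leaf ⟨false,125,[175,125,175],[],26,2,false⟩) (RTr.leaf ⟨false,0,[125,75,100,125,75,100,125,75,100,125,75,100,125,75,100],[],32,7,true⟩))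 (RTr.node (RTr.leaf ⟨false,100,[125,75,100,125,75,100,125,75,100,125,75,100,125,75],[],32,13,true⟩) (RTr.leaf ⟨false,0,[150,75,150,75],[],20,0,false⟩)))) (RTr.node (RTr.node (RTr.node (RTr.node (RTr.leaf ⟨false,50,[125,50,125],[],15,2,false⟩) (RTr.leaf ⟨false,100,[75,175,150,100,75,175,150,100,75,175,150,100,75,175,150],[],31,9,false⟩)) (RTr.leaf ⟨false,75,[50,25,75,50,25,75,50,25,125],[],29,8,true⟩)) (RTr.node (RTr.leaf ⟨false,175,[125,175,125],[],26,1,false⟩) (RTr.leaf ⟨false,50,[125,50,125],[],15,0,false⟩))) (RTr.node (RTr.node (RTr.leaf ⟨false,175,[125,175,125],[],26,3,false⟩) (RTr.leaf ⟨false,75,[50,25,75,50,25,125,75,50,25],[],29,5,true⟩)) (RTr.node (RTr.leaf ⟨false,125,[100,125,100,125,100],[],22,3,false⟩) (RTr.leaf ⟨false,0,[75,50,75,50,75,50],[],13,4,false⟩))))))) (RTr.node (RTr.node (RTr.node (RTr.node (RTr.node (RTr.node (RTr.node (RTr.leaf ⟨true,125,[],[],3,0,false⟩) (RTr.leaf ⟨false,0,[125,150,175,150,175],[],28,1,false⟩))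 (RTr.leaf ⟨false,175,[150,125,175,150],[],28,1,true⟩)) (RTr.node (RTr.leaf ⟨false,25,[125,75,50,25,75,50,25,75,50],[],29,0,true⟩) (RTr.leaf ⟨false,0,[100,150,175,75,100,150,175,75,100,150,175,75,100,150,175,75],[],31,15,true⟩))) (RTr.node (RTr.node (RTr.leaf ⟨false,50,[175,50,175],[],17,2,false⟩) (RTr.leaf ⟨false,0,[75,50,25,75,50,25,75,50,25,125],[],29,9,true⟩)) (RTr.node (RTr.leaf ⟨false,175,[75,175,75],[],21,1,false⟩) (RTr.leaf ⟨false,100,[75,125,100,75,125,100,75,125,100,75,125,100,75,125],[],32,4,false⟩)))) (RTr.node (RTr.node (RTr.node (RTr.node (RTr.leaf ⟨false,175,[75,175,75],[],21,3,false⟩) (RTr.leaf ⟨false,25,[50,75,125,25,50,75,25,50,75],[],29,3,false⟩)) (RTr.leaf ⟨false,0,[175,75,100,150,175,75,100,150,175,75,100,150,175,75,100,150],[],31,1,true⟩)) (RTr.node (RTr.leaf ⟨false,100,[75,100,75,100,75,100,75,100,25,75],[],30,9,false⟩) (RTr.leaf ⟨false,0,[100,175,100,175,100,175],[],24,1,false⟩)))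 (RTr.node (RTr.node (RTr.leaf ⟨false,125,[75,50,25,75,50,25,75,50,25],[],29,9,true⟩) (RTr.leaf ⟨false,0,[50,175,50,175],[],17,1,false⟩)) (RTr.node (RTr.leaf ⟨false,75,[100,75,100,75,100,25,75,100,75,100],[],30,6,false⟩) (RTr.leaf ⟨false,0,[175,125,175,125],[],26,3,true⟩))))) (RTr.node (RTr.node (RTr.node (RTr.node (RTr.node (RTr.leaf ⟨false,25,[25],[],0,0,false⟩) (RTr.leaf ⟨false,125,[100,75,125,100,75,125,100,75,125,100,75,125,100,75],[],32,5,false⟩)) (RTr.leaf ⟨false,125,[75,125,75],[],19,1,false⟩)) (RTr.node (RTr.leaf ⟨false,75,[175,150,100,75,175,150,100,75,175,150,100,75,175,150,100],[],31,0,false⟩) (RTr.leaf ⟨false,75,[100,125,75,100,125,75,100,125,75,100,125,75,100,125],[],32,5,true⟩))) (RTr.node (RTr.node (RTr.leaf ⟨false,75,[175,75,175],[],21,2,false⟩) (RTr.leaf ⟨false,0,[75,175,150,100,75,175,150,100,75,175,150,100,75,175,150,100],[],31,5,false⟩)) (RTr.node (RTr.leaf ⟨false,25,[125,25,125],[],10,0,false⟩)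 (RTr.leaf ⟨false,175,[75,100,150,175,75,100,150,175,75,100,150,175,75,100,150],[],31,4,true⟩)))) (RTr.node (RTr.node (RTr.node (RTr.node (RTr.leaf ⟨false,25,[100,25,100],[],9,2,false⟩) (RTr.leaf ⟨false,75,[175,150,100,75,175,150,100,75,175,150,100,75,175,150,100],[],31,8,false⟩)) (RTr.leaf ⟨false,0,[100,150,175,75,100,150,175,75,100,150,175,75,100,150,175,75],[],31,7,true⟩)) (RTr.node (RTr.leaf ⟨false,125,[100,75,125,100,75,125,100,75,125,100,75,125,100,75],[],32,14,false⟩) (RTr.leaf ⟨false,0,[125,175,150,175,150],[],28,0,true⟩))) (RTr.node (RTr.node (RTr.leaf ⟨false,75,[125,100,75,125,100,75,125,100,75,125,100,75,125,100],[],32,0,false⟩) (RTr.leaf ⟨false,0,[50,75,25,50,75,25,50,75,125,25],[],29,9,false⟩)) (RTr.node (RTr.leaf ⟨false,0,[100,75,25,100,75,100,75,100,75,100,75],[],30,2,true⟩) (RTr.leaf ⟨false,0,[175,75,175,75],[],21,3,true⟩)))))) (RTr.node (RTr.node (RTr.node (RTr.node (RTr.node (RTr.node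 (RTr.leaf ⟨false,100,[50,100,50],[],14,3,false⟩) (RTr.leaf ⟨false,75,[100,75,25,100,75,100,75,100,75,100],[],30,2,true⟩)) (RTr.leaf ⟨false,0,[125,75,125,75],[],19,2,false⟩)) (RTr.node (RTr.leaf ⟨false,125,[175,125,175],[],26,0,false⟩) (RTr.leaf ⟨false,0,[100,150,100,150,100,150],[],23,2,true⟩))) (RTr.node (RTr.node (RTr.leaf ⟨false,25,[175,25,175],[],12,2,false⟩) (RTr.leaf ⟨false,0,[75,50,75,50,75,50],[],13,2,false⟩)) (RTr.node (RTr.leaf ⟨false,25,[100,25,100],[],9,0,false⟩) (RTr.leaf ⟨false,0,[75,25,50,75,125,25,50,75,25,50],[],29,5,false⟩)))) (RTr.node (RTr.node (RTr.node (RTr.node (RTr.leaf ⟨false,75,[25,50,75,125,25,50,75,25,50],[],29,4,false⟩) (RTr.leaf ⟨false,0,[175,125,175,125],[],26,2,false⟩)) (RTr.leaf ⟨false,50,[75,25,50,75,25,50,75,125,25],[],29,8,false⟩)) (RTr.node (RTr.leaf ⟨false,175,[25,175,25],[],12,1,false⟩) (RTr.leaf ⟨false,150,[175,75,100,150,175,75,100,150,175,75,100,150,175,75,100],[],31,9,true⟩)))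 (RTr.node (RTr.node (RTr.leaf ⟨false,175,[100,175,100,175,100],[],24,5,false⟩) (RTr.leaf ⟨false,100,[75,125,100,75,125,100,75,125,100,75,125,100,75,125],[],32,7,false⟩)) (RTr.node (RTr.leaf ⟨false,75,[100,125,75,100,125,75,100,125,75,100,125,75,100,125],[],32,14,true⟩) (RTr.leaf ⟨false,0,[175,75,175,75],[],21,2,false⟩))))) (RTr.node (RTr.node (RTr.node (RTr.node (RTr.node (RTr.leaf ⟨false,175,[25,175,25],[],12,3,false⟩) (RTr.leaf ⟨false,75,[125,100,75,125,100,75,125,100,75,125,100,75,125,100],[],32,9,false⟩)) (RTr.leaf ⟨false,150,[100,75,175,150,100,75,175,150,100,75,175,150,100,75,175],[],31,2,false⟩)) (RTr.node (RTr.leaf ⟨false,125,[50,125,50],[],15,1,false⟩) (RTr.leaf ⟨false,0,[125,175,125,175],[],26,2,true⟩))) (RTr.node (RTr.node (RTr.leaf ⟨false,175,[150,175,125,150],[],28,3,false⟩) (RTr.leaf ⟨false,0,[75,125,75,125],[],19,3,false⟩)) (RTr.node (RTr.leaf ⟨false,100,[175,100,175,100,175],[],24,0,false⟩)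 (RTr.leaf ⟨false,75,[100,125,75,100,125,75,100,125,75,100,125,75,100,125],[],32,8,true⟩)))) (RTr.node (RTr.node (RTr.node (RTr.node (RTr.leaf ⟨false,150,[150],[],5,0,false⟩) (RTr.leaf ⟨false,0,[175,100,175,100,175,100],[],24,4,false⟩)) (RTr.leaf ⟨false,75,[50,75,50,75,50],[],13,3,false⟩)) (RTr.node (RTr.leaf ⟨false,150,[175,75,100,150,175,75,100,150,175,75,100,150,175,75,100],[],31,1,true⟩) (RTr.leaf ⟨false,100,[75,100,75,100,75,25,100,75,100,75],[],30,5,true⟩))) (RTr.node (RTr.node (RTr.leaf ⟨false,75,[100,25,75,100,75,100,75,100,75,100],[],30,2,false⟩) (RTr.leaf ⟨false,0,[100,150,100,150,100,150],[],23,5,false⟩)) (RTr.node (RTr.leaf ⟨false,100,[175,100,175,100,175],[],24,2,false⟩) (RTr.leaf ⟨false,0,[25,75,100,75,100,75,100,75,100,75,100],[],30,1,false⟩)))))))))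

noncomputable def D : TCD where
  N := nat_lit 50313
  E := (Tr.node (Tr.node (Tr.node (Tr.node e0 e8) (Tr.node e4 e12)) (Tr.node (Tr.node e2 e10) (Tr.node e6 e14))) (Tr.node (Tr.node (Tr.node e1 e9) (Tr.node e5 e13)) (Tr.node (Tr.node e3 e11) (Tr.node e7 e15))))
  lb := nat_lit 4
  lm := nat_lit 15
  rw := nat_lit 200
  em := nat_lit 33554431
  vm := nat_lit 131071
  fl := nat_lit 65536
  wv := nat_lit 17
  inf := nat_lit 33423360
  J := (Tr.node (Tr.node (Tr.node (Tr.node j0 j8) (Tr.node j4 j12)) (Tr.node (Tr.node j2 j10) (Tr.node j6 j14))) (Tr.node (Tr.node (Tr.node j1 j9) (Tr.node j5 j13)) (Tr.node (Tr.node j3 j11) (Tr.node j7 j15))))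
  jw := nat_lit 24
  jm := nat_lit 16777215
  jr := nat_lit 216
  pk := nat_lit 200
  nr := nat_lit 290
  R := R
  cols := [(nat_lit 25,nat_lit 48),(nat_lit 50,nat_lit 72),(nat_lit 75,nat_lit 96),(nat_lit 100,nat_lit 120),(nat_lit 125,nat_lit 144),(nat_lit 150,nat_lit 168),(nat_lit 175,nat_lit 192)]
  j0 := nat_lit 24
  big := nat_lit 1000000000

def cl : List (Nat × Nat) := [(25,0),(50,2),(75,4),(100,6),(125,8),(150,10),(175,12)]
def invs : List Nat := [0,1,2,3,4,5,6]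
def rels : List (List Nat) := [[0,1],[2,3],[4,5],[6,7],[8,9],[10,11],[12,13],[0,2,0,2,0,2,0,2],[0,4,0,4],[0,6,0,6],[0,8,0,8],[0,10,0,10],[0,12,0,12],[2,4,2,4,2,4],[2,6,2,6],[2,8,2,8],[2,10,2,10],[2,12,2,12],[4,6,4,6,4,6,4,6,4,6,4,6,4,6,4,6,4,6,4,6],[4,8,4,8],[4,10,4,10],[4,12,4,12],[6,8,6,8,6,8],[6,10,6,10,6,10],[6,12,6,12,6,12],[8,10,8,10],[8,12,8,12],[10,12,10,12,10,12,10,12],[8,13,11,13,11],[8,5,3,1,5,3,1,5,3,1],[0,7,5,7,5,7,5,7,5,7,5],[4,6,10,12,4,6,10,12,4,6,10,12,4,6,10,12],[4,6,8,4,6,8,4,6,8,4,6,8,4,6,8]]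
def subs : List (List Nat) := [[0],[4],[6],[8],[10],[12]]
def W0 : List (List Nat) := [[0],[2],[4],[6],[8],[10],[12]]


end CfsgH7.HeT0
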